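import Cfsg.Agent.H893.RM.Good

/-!
# S3849: the criterion FD from the fixed points of the single elements (helper893)

* `HA.mem_A` : elements of `H` of order prime to `r` lie in `A`;
* `rowM_of_star` : if an `r`-element `w ∈ H` commuting with an element of order `t` of `A` centralises all `t`-elements
  of `A` (for all primes `t`), then `RowM π S`.
-/

set_option autoImplicit false
set_option linter.unusedSectionVars false

namespace Cfsg.Agent.H893.RM

open Subgroup Cfsg Cfsg.Agent.H988.CPi Cfsg.Agent.H571.DExt Cfsg.Agent.H571.RV Cfsg.Agent.H571.RM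
  Cfsg.Agent.H553.OddHall Cfsg.Agent.H565.NM Cfsg.Agent.H167.RV Cfsg.Agent.Solvable.SZ
open scoped Pointwise

universe u

variable {π : Set ℕ} {r : ℕ} {S : Type u} [Group S] [Finite S] {H A : Subgroup S}

omit [Finite S] in
theorem card_mul_relIndex' {K L : Subgroup S} (h : K ≤ L) : Nat.card K * K.relIndex L = Nat.card L := by
  have h1 := (K.subgroupOf L).card_mul_index
  rw [Nat.card_congr (subgroupOfEquivOfLe h).toEquiv] at h1
  exact h1

theorem mem_of_coprime_idx (hAH : A ≤ H) (hn : H ≤ normalizer (A : Set S))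
    (hidx : ∀ p : ℕ, p.Prime → p ∣ A.relIndex H → p = r) (hr : r.Prime) {x : S} (hx : x ∈ H)
    (hxr : (orderOf x).Coprime r) : x ∈ A := by
  have hnorm : (A.subgroupOf H).Normal := (normal_subgroupOf_iff_le_normalizer hAH).mpr hn
  have h1 : (⟨x, hx⟩ : H) ^ (A.subgroupOf H).index ∈ A.subgroupOf H := pow_index_mem _ _
  have h2 : x ^ A.relIndex H ∈ A := mem_subgroupOf.1 h1
  have h3 : x ^ orderOf x ∈ A := by rw [pow_orderOf_eq_one]; exact one_mem _
  refine mem_of_pow_mem_coprime h2 h3 ?_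
  rw [Nat.coprime_comm]
  refine Nat.Coprime.symm (Nat.Coprime.symm ?_)
  by_contra hne
  obtain ⟨p, hp, hp1, hp2⟩ := Nat.Prime.not_coprime_iff_dvd.1 hne
  have h4 := hidx p hp hp2
  subst h4
  exact hp.one_lt.ne' (Nat.dvd_one.1 (hxr ▸ Nat.dvd_gcd hp1 dvd_rfl))

theorem HA.mem_A (d : HA π r H A) {x : S} (hx : x ∈ H) (hxr : (orderOf x).Coprime r) : x ∈ A :=
  mem_of_coprime_idx d.ale d.nor d.idx d.hr hx hxr

/-- a subgroup is centralised by `w` if its elements of prime power order are -/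
theorem cen_of_primary {X : Subgroup S} {w : S}
    (h : ∀ t, t.Prime → t ∣ Nat.card X → ∀ x ∈ X, (∃ k, x ^ t ^ k = 1) → w * x = x * w) : ∀ x ∈ X, w * x = x * w := by
  set Y : Subgroup S := X ⊓ centralizer {w} with hY
  have h1 : Y.relIndex X = 1 := by
    by_contra hne
    obtain ⟨t, ht, htd⟩ := Nat.exists_prime_and_dvd hne
    have htX : t ∣ Nat.card X := htd.trans (relIndex_dvd_card _ _)
    obtain ⟨Q, hQX, hQt, hQi⟩ := exists_syl ht X
    apply hQi
    refine htd.trans (relIndex_dvd_of_le_left X (le_inf hQX fun q hq => ?_))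
    rw [mem_centralizer_singleton_iff]
    obtain ⟨k, hk⟩ := hQt ⟨q, hq⟩
    exact (h t ht htX q (hQX hq) ⟨k, congrArg Subtype.val hk⟩).symm
  intro x hx
  have h2 := (relIndex_eq_one.1 h1 hx).2
  exact (mem_centralizer_singleton_iff.1 h2).symm

/-- **the criterion** -/
theorem rowM_of_star (d : HA π r H A) (hrπ : r ∈ π)
    (hst : ∀ t, t.Prime → t ≠ r → t ∣ Nat.card A → ∀ w ∈ H, (∃ k, w ^ r ^ k = 1) → ∀ a ∈ A, orderOf a = t →
      w * a = a * w → ∀ b ∈ A, (∃ k, b ^ t ^ k = 1) → w * b = b * w) : RowM π S := by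
  refine rowM_of_fd d fun hD X hXA hX hd => ?_
  set C : Subgroup S := centralizer (X : Set S) with hC
  obtain ⟨P, hPC, hPr, hPi⟩ := exists_syl d.hr C
  have hcomm : ∀ p ∈ P, ∀ x ∈ X, p * x = x * p := fun p hp x hx => (mem_centralizer_iff.1 (hPC hp) x hx).symm
  have hPX : P ≤ normalizer (X : Set S) := fun p hp => by
    rw [mem_normalizer_iff]
    intro y
    have hpc : ∀ x ∈ X, p * x * p⁻¹ = x := fun x hx => by rw [hcomm p hp x hx, mul_inv_cancel_right]
    constructor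
    · intro hy; rw [hpc y hy]; exact hy
    · intro hy
      have h1 := hcomm p hp _ hy
      have h2 : y = p * y * p⁻¹ := by
        have h3 : p * (p * y * p⁻¹) = p * y := by rw [h1]; group
        exact (mul_left_cancel h3).symm
      rw [h2]; exact hy
  have hXH : X ≤ H := hXA.trans d.ale
  have hK : PiN π (Nat.card (P ⊔ X : Subgroup S)) :=
    piN_sup hPX (piN_of_pgroup d.hr hrπ hPr) (PiN.of_dvd d.hall.1 (card_dvd_of_le hXH))
  obtain ⟨g, -, hg⟩ := (d.dfw hD).dom _ le_top hK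
  have hgm : ∀ y ∈ P ⊔ X, g⁻¹ * y * g ∈ H := fun y hy => mem_smul_iff'.1 (hg hy)
  -- the conjugate of `P`
  have hP' : MulAut.conj g⁻¹ • P ≤ H ⊓ C := by
    rintro _ ⟨p, hp, rfl⟩
    have hw : g⁻¹ * p * g⁻¹⁻¹ ∈ H := by rw [inv_inv]; exact hgm p (mem_sup_left hp)
    refine ⟨hw, ?_⟩
    have hwr : ∃ k, (g⁻¹ * p * g⁻¹⁻¹) ^ r ^ k = 1 := by
      obtain ⟨k, hk⟩ := hPr ⟨p, hp⟩
      have hk' : p ^ r ^ k = 1 := congrArg Subtype.val hk
      exact ⟨k, by rw [conj_pow, hk']; group⟩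
    show g⁻¹ * p * g⁻¹⁻¹ ∈ centralizer (X : Set S)
    rw [mem_centralizer_iff]
    have key := cen_of_primary (X := X) (w := g⁻¹ * p * g⁻¹⁻¹) fun t ht htX x hx hxt => by
      have hft : Fact t.Prime := ⟨ht⟩
      obtain ⟨y, hy⟩ := exists_prime_orderOf_dvd_card' t htX
      have hyo : orderOf (y : S) = t := by rw [Subgroup.orderOf_coe]; exact hy
      have htr : t ≠ r := by
        rintro rfl
        exact d.rA (htX.trans (card_dvd_of_le hXA))
      have hy' : orderOf (g⁻¹ * y * g⁻¹⁻¹) = t := by rw [← hyo]; exact (MulAut.conj g⁻¹).orderOf_eq (y : S)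
      have hyH : g⁻¹ * y * g⁻¹⁻¹ ∈ H := by rw [inv_inv]; exact hgm y (mem_sup_right y.2)
      have hyA : g⁻¹ * y * g⁻¹⁻¹ ∈ A := HA.mem_A d hyH (by
        rw [hy']; exact (Nat.coprime_primes ht d.hr).2 htr)
      refine hst t ht htr (htX.trans (card_dvd_of_le hXA)) _ hw hwr _ hyA hy' ?_ x (hXA hx) hxt
      have h1 := hcomm p hp y y.2
      calc g⁻¹ * p * g⁻¹⁻¹ * (g⁻¹ * y * g⁻¹⁻¹) = g⁻¹ * (p * y) * g⁻¹⁻¹ := by group
        _ = g⁻¹ * (y * p) * g⁻¹⁻¹ := by rw [h1]
        _ = _ := by group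
    exact fun x hx => (key x hx).symm
  -- the index
  have h1 : (MulAut.conj g⁻¹ • P).relIndex C = P.relIndex C := by
    have h2 := card_mul_relIndex' (hP'.trans inf_le_right)
    have h3 := card_mul_relIndex' hPC
    rw [card_conj_smul] at h2
    exact Nat.eq_of_mul_eq_mul_left Nat.card_pos (h2.trans h3.symm)
  apply hPi
  rw [← h1]
  refine hd.trans ?_
  have h4 : H.relIndex C = (H ⊓ C).relIndex C := by rw [inf_relIndex_right]
  rw [h4]
  exact relIndex_dvd_of_le_left C hP'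

end Cfsg.Agent.H893.RM
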