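import Cfsg.Agent.H893.RM.Ree
import Cfsg.Agent.H125.ReeFull
import Cfsg.Agent.Lib.CoprimeStab
import Cfsg.Agent.OddOrderLocal.GLTwoOdd

/-!
# S3849, `²F₄(q)`: group theory (helper893)

* `star_of_torus` : an abelian subgroup `T` containing a Sylow `t`-subgroup, `9 ∤ |G : T|`, a `3`-element `x`
  normalising `T` without fixed points on the `t`-torsion; then a `3`-element `w ∈ N(B)`, `B` a Sylow `t`-subgroup,
  centralising an element of order `t` of `B` centralises `B`;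
* `star_of_cyclic` : the same if `B` is cyclic;
* `false_of_rank` : rank at most 2 and a nonabelian `3`-subgroup normalising `B` : an element of order 3 centralises the
  elements of order `t` of `B`.
-/

set_option autoImplicit false
set_option linter.unusedSectionVars false

namespace Cfsg.Agent.H893.RM.TwG

open Subgroup Cfsg Cfsg.Agent.H988.CPi Cfsg.Agent.H571.DExt Cfsg.Agent.H571.RV Cfsg.Agent.H571.RM
  Cfsg.Agent.H553.OddHall Cfsg.Agent.H565.NM Cfsg.Agent.H167.RV Cfsg.Agent.Solvable.SZ Cfsg.Agent.H893.RM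
open scoped Pointwise commutatorElement

universe u

theorem isPGroup_zp {Q : Type*} [Group Q] {p : ℕ} {x : Q} (h : ∃ k, x ^ p ^ k = 1) : IsPGroup p (zpowers x) := by
  obtain ⟨k, hk⟩ := h
  rintro ⟨y, i, rfl⟩
  refine ⟨k, Subtype.ext ?_⟩
  show (x ^ i) ^ p ^ k = 1
  rw [← zpow_natCast, ← zpow_mul, mul_comm, zpow_mul, zpow_natCast, hk, one_zpow]

/-- `9 ∤ |Q|` : nontrivial `3`-elements -/
theorem exists_conj_mem {Q : Type*} [Group Q] [Finite Q] (h9 : ¬ 9 ∣ Nat.card Q) {u v : Q} (hu : ∃ k, u ^ 3 ^ k = 1)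
    (hv : ∃ k, v ^ 3 ^ k = 1) (hu1 : u ≠ 1) : ∃ g : Q, g * v * g⁻¹ ∈ zpowers u := by
  have hf : Fact (Nat.Prime 3) := ⟨Nat.prime_three⟩
  obtain ⟨n, hn⟩ := IsPGroup.iff_card.1 (isPGroup_zp hu)
  have hn1 : n ≠ 0 := by
    rintro rfl
    rw [pow_zero, Nat.card_zpowers, orderOf_eq_one_iff] at hn
    exact hu1 hn
  have hidx : ¬ 3 ∣ (zpowers u).index := by
    intro hd
    apply h9
    rw [← (zpowers u).card_mul_index, hn]
    exact mul_dvd_mul (dvd_pow_self 3 hn1) hd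
  obtain ⟨P, hP⟩ := (isPGroup_zp hv).exists_le_sylow
  obtain ⟨g, hg⟩ := MulAction.exists_smul_eq Q P ((isPGroup_zp hu).toSylow hidx)
  refine ⟨g, ?_⟩
  have h1 : g * v * g⁻¹ ∈ ((isPGroup_zp hu).toSylow hidx : Subgroup Q) := by
    rw [← hg]
    exact ⟨v, hP (mem_zpowers v), rfl⟩
  exact h1

variable {G : Type u} [Group G] [Finite G] {t : ℕ}

theorem star_aux {T P : Subgroup G} (hT : ∀ a ∈ T, ∀ b ∈ T, a * b = b * a) (hPT : P ≤ T) (h9 : ¬ 9 ∣ T.index) {x : G}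
    (hx3 : ∃ k, x ^ 3 ^ k = 1) (hxP : x ∈ normalizer (P : Set G)) (hfree : ∀ y ∈ P, y ^ t = 1 → x * y = y * x → y = 1)
    {w : G} (hw3 : ∃ k, w ^ 3 ^ k = 1) (hwP : w ∈ normalizer (P : Set G)) {a : G} (ha : a ∈ P) (hat : a ^ t = 1)
    (ha1 : a ≠ 1) (hwa : w * a = a * w) : w ∈ centralizer (P : Set G) := by
  by_contra hw
  set φ := P.normalizerMonoidHom with hφ
  have hker : φ.ker = (centralizer (P : Set G)).subgroupOf (normalizer (P : Set G)) := normalizerMonoidHom_ker P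
  have hTC : T ≤ centralizer (P : Set G) := fun y hy => by
    rw [mem_centralizer_iff]
    exact fun z hz => hT z (hPT hz) y hy
  have hQ : ¬ 9 ∣ Nat.card φ.range := by
    rw [← index_ker, hker]
    intro hd
    apply h9
    have h1 : (centralizer (P : Set G)).relIndex (normalizer (P : Set G)) ∣ (centralizer (P : Set G)).index :=
      relIndex_dvd_index_of_le (centralizer_le_normalizer _)
    exact hd.trans (h1.trans (index_dvd_of_le hTC))
  have hφ1 : ∀ {k : ℕ} {y : G} (hy : y ∈ normalizer (P : Set G)), y ^ 3 ^ k = 1 →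
      (⟨φ ⟨y, hy⟩, ⟨_, rfl⟩⟩ : φ.range) ^ 3 ^ k = 1 := fun {k y} hy hk => by
    apply Subtype.ext
    show φ ⟨y, hy⟩ ^ 3 ^ k = 1
    rw [← map_pow, show (⟨y, hy⟩ : ↥(normalizer (P : Set G))) ^ 3 ^ k = 1 from Subtype.ext hk, map_one]
  obtain ⟨⟨_, ⟨g, rfl⟩⟩, hg⟩ := exists_conj_mem hQ (u := ⟨φ ⟨w, hwP⟩, ⟨_, rfl⟩⟩) (v := ⟨φ ⟨x, hxP⟩, ⟨_, rfl⟩⟩)
    (by obtain ⟨k, hk⟩ := hw3; exact ⟨k, hφ1 _ hk⟩) (by obtain ⟨k, hk⟩ := hx3; exact ⟨k, hφ1 _ hk⟩) (by
      intro h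
      apply hw
      have h1 : (⟨w, hwP⟩ : ↥(normalizer (P : Set G))) ∈ φ.ker := congrArg Subtype.val h
      rw [hker] at h1
      exact mem_subgroupOf.1 h1)
  obtain ⟨i, hi⟩ := hg
  have hi' : φ (⟨w, hwP⟩ ^ i) = φ (g * ⟨x, hxP⟩ * g⁻¹) := by
    have h1 := congrArg Subtype.val hi
    rw [map_zpow, map_mul, map_mul, map_inv]
    exact h1
  have h1 : ((φ (⟨w, hwP⟩ ^ i) ⟨a, ha⟩ : P) : G) = w ^ i * a * (w ^ i)⁻¹ := rfl
  have h2 : ((φ (g * ⟨x, hxP⟩ * g⁻¹) ⟨a, ha⟩ : P) : G) = ((g : G) * x * (g : G)⁻¹) * a * ((g : G) * x * (g : G)⁻¹)⁻¹ := rfl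
  have h3 : w ^ i * a * (w ^ i)⁻¹ = a := by
    rw [(show Commute w a from hwa).zpow_left i, mul_inv_cancel_right]
  rw [← hi', h1, h3] at h2
  -- `x` commutes with `g⁻¹ a g`
  have h4 : x * ((g : G)⁻¹ * a * g) = ((g : G)⁻¹ * a * g) * x := by
    have h5 : (g : G)⁻¹ * a * g = (g : G)⁻¹ * (((g : G) * x * (g : G)⁻¹) * a * ((g : G) * x * (g : G)⁻¹)⁻¹) * g := by
      rw [← h2]
    calc x * ((g : G)⁻¹ * a * g) = ((g : G)⁻¹ * (((g : G) * x * (g : G)⁻¹) * a * ((g : G) * x * (g : G)⁻¹)⁻¹) * g) * x := by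
          group
      _ = _ := by rw [← h5]
  have h5 : (g : G)⁻¹ * a * g ∈ P := by
    have h6 := (mem_normalizer_iff.1 (inv_mem g.2) a).1 ha
    rwa [inv_inv] at h6
  have h6 := hfree _ h5 (by
    have h7 := conj_pow (i := t) (a := (g : G)⁻¹) (b := a)
    rw [inv_inv] at h7
    rw [h7, hat, mul_one, inv_mul_cancel]) h4
  apply ha1
  have h7 : a = (g : G) * ((g : G)⁻¹ * a * g) * (g : G)⁻¹ := by group
  rw [h7, h6]; group

theorem mem_of_tpow {T P : Subgroup G} (ht : t.Prime) (hT : ∀ a ∈ T, ∀ b ∈ T, a * b = b * a)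
    (hPi : ¬ t ∣ P.relIndex T) {y : G} (hy : y ∈ T) (hyt : ∃ k, y ^ t ^ k = 1) : y ∈ P := by
  have hn : (P.subgroupOf T).Normal := ⟨fun n hn g => by
    have h1 : g * n * g⁻¹ = n := by
      apply Subtype.ext
      show (g : G) * n * (g : G)⁻¹ = n
      rw [hT g g.2 n n.2, mul_inv_cancel_right]
    rwa [h1]⟩
  have h1 : y ^ P.relIndex T ∈ P := mem_subgroupOf.1 (pow_index_mem (P.subgroupOf T) ⟨y, hy⟩)
  obtain ⟨k, hk⟩ := hyt
  refine mem_of_pow_mem_coprime (a := P.relIndex T) (b := t ^ k) h1 (by rw [hk]; exact one_mem _) ?_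
  exact Nat.Coprime.pow_right _ ((Nat.Prime.coprime_iff_not_dvd ht).2 hPi).symm

/-- **the torus of order `(q + 1)²`** -/
theorem star_of_torus (ht : t.Prime) {T : Subgroup G} (hT : ∀ a ∈ T, ∀ b ∈ T, a * b = b * a) (htT : ¬ t ∣ T.index)
    (h9 : ¬ 9 ∣ T.index) {x : G} (hx3 : ∃ k, x ^ 3 ^ k = 1) (hxT : ∀ y ∈ T, x * y * x⁻¹ ∈ T)
    (hfree : ∀ y ∈ T, y ^ t = 1 → x * y = y * x → y = 1) {B : Subgroup G} (hBt : IsPGroup t B) (hBi : ¬ t ∣ B.index)
    {w : G} (hw3 : ∃ k, w ^ 3 ^ k = 1) (hwB : w ∈ normalizer (B : Set G)) {a : G} (ha : a ∈ B) (hao : orderOf a = t)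
    (hwa : w * a = a * w) : ∀ b ∈ B, w * b = b * w := by
  have hft : Fact t.Prime := ⟨ht⟩
  obtain ⟨P, hPT, hPt, hPi⟩ := exists_syl ht T
  have hPi' : ¬ t ∣ P.index := by
    rw [← relIndex_mul_index hPT]
    exact fun h => ((Nat.Prime.dvd_mul ht).1 h).elim hPi htT
  obtain ⟨g, hg⟩ := MulAction.exists_smul_eq G (hBt.toSylow hBi) (hPt.toSylow hPi')
  have hg' : MulAut.conj g • B = P := congrArg (fun Z : Sylow t G => (Z : Subgroup G)) hg
  have hmem : ∀ y : G, y ∈ B → g * y * g⁻¹ ∈ P := fun y hy => by rw [← hg']; exact ⟨y, hy, rfl⟩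
  have hxP : x ∈ normalizer (P : Set G) := by
    apply mem_normalizer_fintype
    intro y hy
    refine mem_of_tpow ht hT hPi (hxT y (hPT hy)) ?_
    obtain ⟨k, hk⟩ := hPt ⟨y, hy⟩
    exact ⟨k, by rw [conj_pow, show y ^ t ^ k = 1 from congrArg Subtype.val hk]; group⟩
  have hwP : g * w * g⁻¹ ∈ normalizer (P : Set G) := by
    rw [← hg']
    have h1 := nrm_conj g B
    rw [h1]
    exact ⟨w, hwB, rfl⟩
  have h1 := star_aux (t := t) hT hPT h9 hx3 hxP (fun y hy => hfree y (hPT hy)) (w := g * w * g⁻¹) (by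
      obtain ⟨k, hk⟩ := hw3
      exact ⟨k, by rw [conj_pow, hk]; group⟩) hwP (hmem a ha) (by
      rw [conj_pow, ← hao, pow_orderOf_eq_one]; group) (by
      intro h
      have h2 : a = 1 := by
        have h3 : a = g⁻¹ * (g * a * g⁻¹) * g := by group
        rw [h3, h]; group
      rw [h2, orderOf_one] at hao
      exact ht.one_lt.ne hao) (by
      calc g * w * g⁻¹ * (g * a * g⁻¹) = g * (w * a) * g⁻¹ := by group
        _ = g * (a * w) * g⁻¹ := by rw [hwa]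
        _ = _ := by group)
  intro b hb
  have h2 := mem_centralizer_iff.1 h1 _ (hmem b hb)
  have h3 : g * (b * w) * g⁻¹ = g * (w * b) * g⁻¹ := by
    calc g * (b * w) * g⁻¹ = g * b * g⁻¹ * (g * w * g⁻¹) := by group
      _ = g * w * g⁻¹ * (g * b * g⁻¹) := h2
      _ = _ := by group
  exact (mul_left_cancel (mul_right_cancel h3)).symm

/-- coprime action: the elements of order `t` -/
theorem star_of_omega (ht : t.Prime) (ht2 : t ≠ 2) (ht3 : t ≠ 3) {B : Subgroup G} (hBt : IsPGroup t B) {w : G}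
    (hw3 : ∃ k, w ^ 3 ^ k = 1) (hwB : w ∈ normalizer (B : Set G)) (hfix : ∀ b ∈ B, b ^ t = 1 → w * b = b * w) :
    ∀ b ∈ B, w * b = b * w := by
  have hft : Fact t.Prime := ⟨ht⟩
  have h1 := Cfsg.Agent.Lib.CoprimeStab.le_centralizer_of_omega t ht2 (zpowers w) (by
    obtain ⟨k, hk⟩ := hw3
    rw [Nat.card_zpowers]
    exact Nat.Coprime.coprime_dvd_left (orderOf_dvd_of_pow_eq_one hk)
      (Nat.Coprime.pow_left _ ((Nat.coprime_primes Nat.prime_three ht).2 (Ne.symm ht3)))) B hBt (zpowers_le.2 hwB)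
    (fun x hx hxt a ha => by
      obtain ⟨i, rfl⟩ := ha
      exact ((show Commute w x from hfix x hx hxt).zpow_left i).symm)
  exact fun b hb => (mem_centralizer_iff.1 (h1 (mem_zpowers w)) b hb).symm

theorem star_of_cyclic (ht : t.Prime) (ht2 : t ≠ 2) (ht3 : t ≠ 3) {B : Subgroup G} (hBt : IsPGroup t B)
    (hB : IsCyclic B) {w : G} (hw3 : ∃ k, w ^ 3 ^ k = 1) (hwB : w ∈ normalizer (B : Set G)) {a : G} (ha : a ∈ B)
    (hao : orderOf a = t) (hwa : w * a = a * w) : ∀ b ∈ B, w * b = b * w := by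
  refine star_of_omega ht ht2 ht3 hBt hw3 hwB fun b hb hbt => ?_
  have h1 : (⟨b, hb⟩ : B) ∈ zpowers (⟨a, ha⟩ : B) := by
    rw [Cfsg.Agent.H125.ReeFull.mem_zpowers_iff_of_cyclic hB, Subgroup.orderOf_mk, hao]
    exact Subtype.ext hbt
  obtain ⟨i, hi⟩ := h1
  have hi' : a ^ i = b := congrArg Subtype.val hi
  rw [← hi']
  exact (show Commute w a from hwa).zpow_right i

/-- **rank at most 2** -/
theorem false_of_rank (ht : t.Prime) (hrk : PRankLE t 2 G) {B R Q : Subgroup G} (ht3 : t ≠ 3)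
    (hBt : IsPGroup t B) (hBi : ¬ t ∣ B.index) (hBc : ∀ a ∈ B, ∀ b ∈ B, a * b = b * a) (hR : IsPGroup 3 R)
    (hRB : R ≤ normalizer (B : Set G)) (hna : ∃ u ∈ R, ∃ v ∈ R, u * v ≠ v * u) (hQt : ∀ x ∈ Q, x ^ t = 1)
    (hQ : ∀ y, orderOf y = 3 → ¬ ∀ x ∈ Q, x * y = y * x) : False := by
  have hft : Fact t.Prime := ⟨ht⟩
  have hf3 : Fact (Nat.Prime 3) := ⟨Nat.prime_three⟩
  -- the elements of order `t`
  let V : Subgroup G :=
    { carrier := {x | x ∈ B ∧ x ^ t = 1}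
      one_mem' := ⟨one_mem _, one_pow _⟩
      mul_mem' := fun {a b} ha hb => ⟨mul_mem ha.1 hb.1, by
        rw [(show Commute a b from hBc a ha.1 b hb.1).mul_pow, ha.2, hb.2, one_mul]⟩
      inv_mem' := fun {a} ha => ⟨inv_mem ha.1, by rw [inv_pow, ha.2, inv_one]⟩ }
  have hVB : V ≤ B := fun x hx => hx.1
  have hRV : R ≤ normalizer (V : Set G) := fun r hr => by
    apply mem_normalizer_fintype
    intro y hy
    exact ⟨(mem_normalizer_iff.1 (hRB hr) y).1 hy.1, by rw [conj_pow, hy.2]; group⟩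
  have hVc : ∀ a b : V, a * b = b * a := fun a b => Subtype.ext (hBc a a.2.1 b b.2.1)
  have hV : Nat.card V ≤ t ^ 2 := hrk V ⟨⟨fun a b => hVc a b⟩⟩ fun a ha => ha.2
  -- the action
  let φ : R →* MulAut V := V.normalizerMonoidHom.comp (inclusion hRV)
  obtain ⟨u, hu, v, hv, huv⟩ := hna
  obtain ⟨n, hn⟩ := IsPGroup.iff_card.1 hR
  set c : R := ⁅(⟨u, hu⟩ : R), ⟨v, hv⟩⁆ with hc
  have hc1 : c ≠ 1 := by
    intro h
    apply huv
    have h1 := commutatorElement_eq_one_iff_mul_comm.1 h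
    exact congrArg Subtype.val h1
  have hφ := Cfsg.Agent.OddOrderLocal.GLTwoOdd.mulAut_pow_eq_one_of_mem_commutator (A := R)
    (by have := hR.isNilpotent; infer_instance) (by rw [hn]; exact Odd.pow (by decide)) (p := t) hVc
    (fun a => Subtype.ext a.2.2) hV φ (g := c) (by rw [_root_.commutator]; exact commutator_mem_commutator (mem_top _) (mem_top _))
  have hφc : φ c = 1 := by
    obtain ⟨k, hk⟩ := hR c
    have h1 : φ c ^ 3 ^ k = 1 := by rw [← map_pow, hk, map_one]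
    have h2 : orderOf (φ c) ∣ 1 := by
      have h3 := Nat.dvd_gcd (orderOf_dvd_of_pow_eq_one h1) (orderOf_dvd_of_pow_eq_one hφ)
      rwa [Nat.Coprime.gcd_eq_one (Nat.Coprime.pow_left _ ((Nat.coprime_primes Nat.prime_three ht).2 (Ne.symm ht3)))] at h3
    exact orderOf_eq_one_iff.1 (Nat.dvd_one.1 h2)
  have hcV : ∀ y ∈ V, (c : G) * y = y * c := fun y hy => by
    have h1 : ((φ c ⟨y, hy⟩ : V) : G) = c * y * (c : G)⁻¹ := rfl
    rw [hφc] at h1
    exact (mul_inv_eq_iff_eq_mul.1 h1.symm)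
  -- an element of order 3
  obtain ⟨k, hk⟩ := (Nat.dvd_prime_pow Nat.prime_three).1 (show orderOf c ∣ 3 ^ n by rw [← hn]; exact orderOf_dvd_natCard c)
  have hk0 : k ≠ 0 := by
    rintro rfl
    rw [pow_zero, orderOf_eq_one_iff] at hk
    exact hc1 hk.2
  obtain ⟨k, rfl⟩ := Nat.exists_eq_succ_of_ne_zero hk0
  have hd : orderOf ((c : G) ^ 3 ^ k) = 3 := by
    have h1 : orderOf (c : G) = 3 ^ (k + 1) := by rw [Subgroup.orderOf_coe]; exact hk.2
    rw [orderOf_pow' _ (pow_ne_zero _ (by norm_num)), h1, Nat.gcd_eq_right (pow_dvd_pow 3 (Nat.le_succ k)),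
      Nat.pow_succ, Nat.mul_div_cancel_left _ (by positivity)]
  -- conjugate `Q` into `V`
  have hQp : IsPGroup t Q := fun x => ⟨1, by rw [pow_one]; exact Subtype.ext (hQt x x.2)⟩
  obtain ⟨P, hP⟩ := hQp.exists_le_sylow
  obtain ⟨g, hg⟩ := MulAction.exists_smul_eq G P (hBt.toSylow hBi)
  have hmem : ∀ x ∈ Q, g * x * g⁻¹ ∈ V := fun x hx => by
    refine ⟨?_, by rw [conj_pow, hQt x hx]; group⟩
    have h1 : g * x * g⁻¹ ∈ (hBt.toSylow hBi : Subgroup G) := by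
      rw [← hg]
      exact ⟨x, hP hx, rfl⟩
    exact h1
  refine hQ (g⁻¹ * (c : G) ^ 3 ^ k * g⁻¹⁻¹) (((MulAut.conj g⁻¹).orderOf_eq _).trans hd) fun x hx => ?_
  have h1 : Commute ((c : G) ^ 3 ^ k) (g * x * g⁻¹) := (show Commute (c : G) (g * x * g⁻¹) from hcV _ (hmem x hx)).pow_left _
  have h2 : (c : G) ^ 3 ^ k * (g * x * g⁻¹) = g * x * g⁻¹ * (c : G) ^ 3 ^ k := h1
  calc x * (g⁻¹ * (c : G) ^ 3 ^ k * g⁻¹⁻¹) = g⁻¹ * (g * x * g⁻¹ * (c : G) ^ 3 ^ k) * g := by group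
    _ = g⁻¹ * ((c : G) ^ 3 ^ k * (g * x * g⁻¹)) * g := by rw [h2]
    _ = _ := by group

end Cfsg.Agent.H893.RM.TwG
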