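import Cfsg.Agent.H571.RM.RowS
import Cfsg.Agent.H167.RV.RowsA
import Cfsg.Agent.H167.RV.Suz

/-!
# S3849: rows with a nilpotent Hall subgroup (helper893)

* `nil_of_good` : if all primes of `π` dividing the order are good, the Hall `π`-subgroups are nilpotent;
* `her_congr`, `rowM_congr`, `rowM_of_dom`;
* `rowM_good`, `rowM_suz`.
-/

set_option autoImplicit false
set_option linter.unusedSectionVars false

namespace Cfsg.Agent.H893.RM

open Subgroup Cfsg Cfsg.Agent.H988.CPi Cfsg.Agent.H571.DExt Cfsg.Agent.H571.RV Cfsg.Agent.H571.RM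
  Cfsg.Agent.H553.OddHall Cfsg.Agent.H565.NM Cfsg.Agent.H167.RV

universe u

variable {π : Set ℕ} {S : Type u} [Group S] [Finite S]

theorem nil_of_good {P : ℕ → Prop} (hG : Good P S) (h2 : 2 ∉ π)
    (hP : ∀ t, t.Prime → t ∈ π → t ∣ Nat.card S → P t) {H : Subgroup S} (hH : IsPiHall π H) :
    Group.IsNilpotent H := by
  have h0 := (Group.isNilpotent_of_finite_tfae (G := H)).out 0 3
  refine h0.2 ?_
  intro t ht Q
  by_cases htH : t ∣ Nat.card H
  · have htπ := hH.1 t ht.out htH
    have ht2 : t ≠ 2 := by rintro rfl; exact h2 htπ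
    exact (ns_of_pairs h2 ht.out htπ (fun s hs hsπ hst hsd => pairN_of_noMin hs ht.out
      (by rintro rfl; exact h2 hsπ) ht2 hst (hG.noMin s t hs ht.out (hP s hs hsπ hsd)
        (hP t ht.out htπ (htH.trans (card_subgroup_dvd_card H))) hst)) hH).sylow_normal Q
  · have h1 : (Q : Subgroup H) = ⊥ := by
      rw [← card_eq_one]
      obtain ⟨k, hk⟩ := IsPGroup.iff_card.mp Q.2
      rcases Nat.eq_zero_or_pos k with rfl | hk0
      · simpa using hk
      · exfalso
        apply htH
        exact (dvd_pow_self t hk0.ne').trans (hk ▸ card_subgroup_dvd_card (Q : Subgroup H))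
    rw [h1]
    infer_instance

omit [Finite S] in
theorem her_congr {T : Type*} [Group T] (e : S ≃* T) (h : Her π S) : Her π T := by
  intro hD H M hH hHM
  obtain ⟨H, rfl⟩ := Cfsg.Agent.H808.RV.exists_eq_map e H
  obtain ⟨M, rfl⟩ := Cfsg.Agent.H808.RV.exists_eq_map e M
  have h1 := h (Cfsg.Agent.H808.RV.dom_congr e.symm hD) H M ((Cfsg.Agent.H808.RV.isPiHall_map e).1 hH)
    ((Cfsg.Agent.H808.RV.map_mono_iff e).1 hHM)
  exact Cfsg.Agent.H808.RV.dom_congr (M.equivMapOfInjective e.toMonoidHom e.injective) h1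

omit [Finite S] in
theorem rowM_congr {T : Type*} [Group T] (e : S ≃* T) (h : RowM π S) : RowM π T := fun hs =>
  her_congr e (h fun L hL => her_congr (L.equivMapOfInjective e.toMonoidHom e.injective).symm
    (hs (L.map e.toMonoidHom) fun h1 => hL (by
      rw [eq_top_iff]
      intro x _
      have h2 : e x ∈ L.map e.toMonoidHom := by rw [h1]; trivial
      obtain ⟨y, hy, hyx⟩ := h2
      rwa [← e.injective hyx])))

/-- the row may be proved under `Dom` -/
theorem rowM_of_dom (h : Dom π S → RowM π S) : RowM π S := fun hs hD => h hD hs hD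

/-- **all primes good** -/
theorem rowM_good {P : ℕ → Prop} (hG : Good P S) (h2 : 2 ∉ π)
    (hP : ∀ t, t.Prime → t ∈ π → t ∣ Nat.card S → P t) : RowM π S :=
  rowM_of_dom fun hD => by
    obtain ⟨H, hH, -⟩ := hD
    exact her_rowM (her_of_nilpotent hH (nil_of_good hG h2 hP hH))

theorem good_suz (h : Lie.IsoSuzuki S) : Good (fun t => t ≠ 2) S := by
  obtain ⟨F, iF, iF', m, hm, hF, ⟨f⟩⟩ := id h
  obtain ⟨e⟩ := Cfsg.Agent.OddCyclic.ClaimC.SzIso.iso (F := F) hm hF
  have : Finite (Cfsg.Sz F m) := Finite.of_equiv S (f.trans e.symm).toEquiv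
  refine (good_sz hm hF fun t ht ht2 Q hQ => ?_).of_equiv (f.trans e.symm)
  have hft : Fact t.Prime := ⟨ht⟩
  have h1 := Cfsg.Agent.OddRank.SzTits.isCyclic_of_isPGroup h ht2 (Q.comap (f.trans e.symm).toMonoidHom)
    (hQ.comap_of_injective _ (f.trans e.symm).injective)
  have h3 : (Q.comap (f.trans e.symm).toMonoidHom).map (f.trans e.symm).toMonoidHom = Q :=
    map_comap_eq_self_of_surjective (f.trans e.symm).surjective Q
  have h4 : IsCyclic ((Q.comap (f.trans e.symm).toMonoidHom).map (f.trans e.symm).toMonoidHom) :=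
    isCyclic_of_surjective ((f.trans e.symm).toMonoidHom.subgroupMap (Q.comap (f.trans e.symm).toMonoidHom))
      ((f.trans e.symm).toMonoidHom.subgroupMap_surjective _)
  rwa [h3] at h4

/-- **`Sz(q)`** -/
theorem rowM_suz (h2 : 2 ∉ π) (h : Lie.IsoSuzuki S) : RowM π S :=
  rowM_good (good_suz h) h2 fun t _ htπ _ => by rintro rfl; exact h2 htπ

end Cfsg.Agent.H893.RM
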