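import Cfsg.Agent.H893.RM.Star
import Cfsg.Agent.H555.RV.Ree
import Cfsg.Agent.H125.ReeFull

/-!
# S3849: the row of the Ree groups `²G₂(q)` (helper893)

* `ree_tor` : an element of prime order `t ≥ 5` lies in a subgroup `A₀` with `N(A₁) = N(A₀)` for all `1 ≠ A₁ ≤ A₀` and
  `|N(A₀) : A₀|` a `{2, 3}`-number;
* `rowM_ree`.
-/

set_option autoImplicit false
set_option linter.unusedSectionVars false

namespace Cfsg.Agent.H893.RM

open Subgroup Cfsg Cfsg.Agent.H988.CPi Cfsg.Agent.H571.DExt Cfsg.Agent.H571.RV Cfsg.Agent.H571.RM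
  Cfsg.Agent.H553.OddHall Cfsg.Agent.H565.NM Cfsg.Agent.H167.RV Cfsg.Agent.Solvable.SZ Cfsg.Agent.H14.RowReeJOne
  Cfsg.Lie Cfsg.Lie.ChevalleyDatum CoxeterSystem
  Cfsg.Agent.ChevalleyStructure Cfsg.Agent.ChevalleyStructure.Elts Cfsg.Agent.ChevalleyStructure.CoxeterGeom
  Cfsg.Agent.ChevalleyStructure.CoxeterGeomTypes Cfsg.Agent.ChevalleyStructure.NPerm
  Cfsg.Agent.Tits.Roots Cfsg.Agent.Tits.Core Cfsg.Agent.Nodes Cfsg.Agent.Nodes.Reps Cfsg.Agent.Nodes.BNOf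
  Cfsg.Agent.Nodes.RGDChev Cfsg.Agent.Nodes.Bruhat
  Cfsg.Agent.KFacts.RgdField Cfsg.Agent.KFacts.RgdChevCoord Cfsg.Agent.BpExc.TorCent Cfsg.Agent.BpExc.TorChev
  Cfsg.Agent.GpExc.Field Cfsg.Agent.BpExc.Tow Cfsg.Agent.BpExc.TowChev Cfsg.Agent.BpExc.Fr
  Cfsg.Agent.BpExc.LangFr Cfsg.Agent.H795.SetCent Cfsg.Agent.H795.SetTor Cfsg.Agent.H795.RowsA Cfsg.Agent.H565.T3
  Cfsg.Agent.BpExc.RowsUntw Cfsg.Agent.H129.TorusChar Cfsg.Agent.H720.TwFr Cfsg.Agent.BpExc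
open scoped Pointwise

universe u

variable {π : Set ℕ}

/-- a torus -/
structure RTor {G : Type*} [Group G] (T : Subgroup G) : Prop where
  idx : ∀ p : ℕ, p.Prime → p ∣ T.relIndex (normalizer (T : Set G)) → p ≤ 3
  nor : ∀ T₁ ≤ T, T₁ ≠ ⊥ → normalizer (T₁ : Set G) = normalizer (T : Set G)

theorem nrm_conj {G : Type*} [Group G] (g : G) (A : Subgroup G) :
    normalizer ((MulAut.conj g • A : Subgroup G) : Set G) = MulAut.conj g • normalizer (A : Set G) := by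
  ext y
  rw [mem_smul_iff', mem_normalizer_iff, mem_normalizer_iff]
  have key : ∀ z : G, z ∈ MulAut.conj g • A ↔ g⁻¹ * z * g ∈ A := fun z => mem_smul_iff'
  constructor
  · intro h z
    have h1 := h (g * z * g⁻¹)
    rw [key, key] at h1
    have h2 : g⁻¹ * (g * z * g⁻¹) * g = z := by group
    have h3 : g⁻¹ * (y * (g * z * g⁻¹) * y⁻¹) * g = g⁻¹ * y * g * z * (g⁻¹ * y * g)⁻¹ := by group
    rwa [h2, h3] at h1
  · intro h z
    have h1 := h (g⁻¹ * z * g)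
    rw [key, key]
    have h3 : g⁻¹ * y * g * (g⁻¹ * z * g) * (g⁻¹ * y * g)⁻¹ = g⁻¹ * (y * z * y⁻¹) * g := by group
    rwa [h3] at h1

theorem RTor.conj {G : Type*} [Group G] [Finite G] {T : Subgroup G} (h : RTor T) (g : G) : RTor (MulAut.conj g • T) := by
  refine ⟨?_, ?_⟩
  · intro p hp hpd
    refine h.idx p hp ?_
    have h6 := card_mul_relIndex' (le_normalizer (H := MulAut.conj g • T))
    have h7 := card_mul_relIndex' (le_normalizer (H := T))
    rw [nrm_conj, card_conj_smul, card_conj_smul, ← h7] at h6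
    rw [nrm_conj] at hpd
    rwa [Nat.eq_of_mul_eq_mul_left Nat.card_pos h6] at hpd
  · intro T₁ hT₁ hne
    have h5 := h.nor (MulAut.conj g⁻¹ • T₁) (by rw [smul_le_iff', inv_inv]; exact hT₁) (by
      intro h
      apply hne
      rw [← card_eq_one, ← card_conj_smul g⁻¹ T₁, h, card_bot])
    rw [nrm_conj] at h5
    rw [nrm_conj, ← h5, ← mul_smul, ← map_mul, mul_inv_cancel, map_one, one_smul]

theorem ree_tor {K : Type*} [Field K] [Fintype K] {m : ℕ} (hm : 1 ≤ m) (hK : Fintype.card K = 3 ^ (2 * m + 1))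
    [Finite ↥(Cfsg.Lie.twistedG2 K (3 ^ m))] {t : ℕ}
    (hcy : ∀ R : Subgroup ↥(Cfsg.Lie.twistedG2 K (3 ^ m)), IsPGroup t R → IsCyclic R)
    (ht : t.Prime) (h5 : 5 ≤ t) {x : ↥(Cfsg.Lie.twistedG2 K (3 ^ m))}
    (hx : orderOf x = t) : ∃ T : Subgroup ↥(Cfsg.Lie.twistedG2 K (3 ^ m)), x ∈ T ∧ RTor T := by
  have hft : Fact t.Prime := ⟨ht⟩
  have hl := (Cfsg.Agent.S1159.result hm hK t).1 ⟨x, hx⟩
  have key : ∀ k n c : ℕ, (k, n) ∈ ({((3 ^ (2 * m + 1) - 1) / 2, 2 * (3 ^ (2 * m + 1) - 1)), ((3 ^ (2 * m + 1) + 1) / 4, 6 * (3 ^ (2 * m + 1) + 1)),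
        (3 ^ (2 * m + 1) - 3 ^ (m + 1) + 1, 6 * (3 ^ (2 * m + 1) - 3 ^ (m + 1) + 1)),
        (3 ^ (2 * m + 1) + 3 ^ (m + 1) + 1, 6 * (3 ^ (2 * m + 1) + 3 ^ (m + 1) + 1))} : Set (ℕ × ℕ)) →
      t ∣ k → n = k * c → (∀ p : ℕ, p.Prime → p ∣ c → p ≤ 3) → ∃ T : Subgroup ↥(Cfsg.Lie.twistedG2 K (3 ^ m)), x ∈ T ∧ RTor T := by
    intro k n c hkn htk hn hc
    obtain ⟨A, hcyc, hA, hN, hall⟩ := Cfsg.Agent.S1158.result hm hK (k, n) hkn
    have hA : Nat.card A = k := hA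
    have hN : Nat.card (normalizer (A : Set ↥(Cfsg.Lie.twistedG2 K (3 ^ m)))) = n := hN
    obtain ⟨a, ha⟩ := exists_prime_orderOf_dvd_card' (G := A) t (by rw [hA]; exact htk)
    have ha' : orderOf (a : ↥(Cfsg.Lie.twistedG2 K (3 ^ m))) = t := by rw [Subgroup.orderOf_coe, ha]
    have hR : RTor A := by
      refine ⟨fun p hp hpd => hc p hp ?_, hall⟩
      have h1 := card_mul_relIndex' (le_normalizer (H := A))
      rw [hA, hN, hn] at h1
      have hk0 : 0 < k := by rw [← hA]; exact Nat.card_pos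
      rwa [Nat.eq_of_mul_eq_mul_left hk0 h1] at hpd
    -- conjugate
    obtain ⟨P, hP⟩ := (show IsPGroup t (zpowers x) from IsPGroup.of_card (n := 1) (by
      rw [Nat.card_zpowers, hx, pow_one])).exists_le_sylow
    obtain ⟨Q, hQ⟩ := (show IsPGroup t (zpowers (a : ↥(Cfsg.Lie.twistedG2 K (3 ^ m)))) from IsPGroup.of_card (n := 1) (by
      rw [Nat.card_zpowers, ha', pow_one])).exists_le_sylow
    obtain ⟨g, hg⟩ := MulAction.exists_smul_eq (↥(Cfsg.Lie.twistedG2 K (3 ^ m))) Q P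
    have h1 : g * a * g⁻¹ ∈ (P : Subgroup ↥(Cfsg.Lie.twistedG2 K (3 ^ m))) := by
      rw [← hg]
      exact ⟨a, hQ (mem_zpowers _), rfl⟩
    have h2 : orderOf (g * a * g⁻¹) = orderOf x := by
      rw [hx, ← ha']
      exact (MulAut.conj g).orderOf_eq (a : ↥(Cfsg.Lie.twistedG2 K (3 ^ m)))
    have h3 := Cfsg.Agent.H125.ReeFull.zpowers_eq_of_cyclic (hcy _ P.2) h1 (hP (mem_zpowers x)) h2
    have h4 : x ∈ MulAut.conj g • A := by
      have h5 : x ∈ zpowers (g * a * g⁻¹) := by rw [h3]; exact mem_zpowers x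
      refine (zpowers_le.2 ?_) h5
      exact ⟨a, a.2, rfl⟩
    exact ⟨_, h4, hR.conj g⟩
  have hq8 : 3 ^ (2 * m + 1) % 8 = 3 := by
    have h1 : 3 ^ (2 * m + 1) = 9 ^ m * 3 := by rw [pow_succ, pow_mul]; norm_num
    rw [h1, Nat.mul_mod, Nat.pow_mod]
    norm_num
  have c4 : ∀ p : ℕ, p.Prime → p ∣ 4 → p ≤ 3 := fun p hp hd => by
    have := (Nat.prime_dvd_prime_iff_eq hp Nat.prime_two).1 (hp.dvd_of_dvd_pow (n := 2) (by simpa using hd)); omega
  have c6 : ∀ p : ℕ, p.Prime → p ∣ 6 → p ≤ 3 := fun p hp hd => by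
    rcases hp.dvd_mul.1 (show p ∣ 2 * 3 by simpa using hd) with h | h
    · have := (Nat.prime_dvd_prime_iff_eq hp Nat.prime_two).1 h; omega
    · have := (Nat.prime_dvd_prime_iff_eq hp Nat.prime_three).1 h; omega
  have c24 : ∀ p : ℕ, p.Prime → p ∣ 24 → p ≤ 3 := fun p hp hd => by
    rcases hp.dvd_mul.1 (show p ∣ 6 * 4 by simpa using hd) with h | h
    · exact c6 p hp h
    · exact c4 p hp h
  have hodd : ¬ t ∣ 2 := fun h => by have := Nat.le_of_dvd (by norm_num) h; omega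
  rcases hl with hl | hl | hl | hl | hl | hl
  · have := c6 t ht hl; omega
  · have := (Nat.prime_dvd_prime_iff_eq ht Nat.prime_three).1 (ht.dvd_of_dvd_pow (n := 2) (by simpa using hl)); omega
  · refine key _ _ 4 (Or.inl rfl) ?_ (by omega) c4
    have h1 : 3 ^ (2 * m + 1) - 1 = 2 * ((3 ^ (2 * m + 1) - 1) / 2) := by omega
    rw [h1] at hl
    exact (ht.dvd_mul.1 hl).resolve_left hodd
  · refine key _ _ 24 (Or.inr (Or.inl rfl)) ?_ (by omega) c24
    have h1 : (3 ^ (2 * m + 1) + 1) / 2 = 2 * ((3 ^ (2 * m + 1) + 1) / 4) := by omega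
    rw [h1] at hl
    exact (ht.dvd_mul.1 hl).resolve_left hodd
  · exact key _ _ 6 (Or.inr (Or.inr (Or.inl rfl))) hl (mul_comm _ _) c6
  · exact key _ _ 6 (Or.inr (Or.inr (Or.inr rfl))) hl (mul_comm _ _) c6

/-- **the criterion** -/
theorem rowM_of_tor {G : Type u} [Group G] [Finite G] {H A : Subgroup G} (d : HA π 2 H A) (h3 : 3 ∉ π)
    (hT : ∀ t : ℕ, t.Prime → 5 ≤ t → ∀ x : G, orderOf x = t → ∃ T : Subgroup G, x ∈ T ∧ RTor T) : RowM π G := by
  refine rowM_of_cent d fun _ X hXA hX => ?_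
  obtain ⟨t, ht, htX⟩ := Nat.exists_prime_and_dvd (n := Nat.card X) (by rwa [Ne, card_eq_one])
  have hft : Fact t.Prime := ⟨ht⟩
  obtain ⟨y, hy⟩ := exists_prime_orderOf_dvd_card' t htX
  have hyo : orderOf (y : G) = t := by rw [Subgroup.orderOf_coe]; exact hy
  have hAp : ∀ p : ℕ, p.Prime → p ∣ Nat.card A → 5 ≤ p := fun p hp hd =>
    five_le hp (by rintro rfl; exact d.rA hd) (by
      rintro rfl; exact h3 (d.hall.1 3 hp (hd.trans (card_dvd_of_le d.ale))))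
  obtain ⟨T, hyT, hR⟩ := hT t ht (hAp t ht (htX.trans (card_dvd_of_le hXA))) y hyo
  -- `A ≤ T`
  have hne : ∀ Z : Subgroup G, (y : G) ∈ Z → Z ≠ ⊥ := fun Z hyZ h => by
    rw [h, mem_bot] at hyZ
    rw [hyZ, orderOf_one] at hyo
    exact ht.one_lt.ne hyo
  have h1 : A ≤ normalizer (T : Set G) := by
    rw [← hR.nor (zpowers (y : G)) (zpowers_le.2 hyT) (hne _ (mem_zpowers _))]
    refine le_trans ?_ (centralizer_le_normalizer _)
    intro a ha
    rw [mem_centralizer_iff]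
    rintro _ ⟨k, rfl⟩
    exact d.ab _ (zpow_mem (hXA y.2) k) a ha
  have hAT : A ≤ T := by
    intro a ha
    have h2 : a ^ T.relIndex (normalizer (T : Set G)) ∈ T := by
      have h3 : (T.subgroupOf (normalizer (T : Set G))).Normal := (normal_subgroupOf_iff_le_normalizer le_normalizer).mpr le_rfl
      exact mem_subgroupOf.1 (pow_index_mem (T.subgroupOf (normalizer (T : Set G))) ⟨a, h1 ha⟩)
    have h4 : a ^ Nat.card A ∈ T := by
      have h5 : (⟨a, ha⟩ : A) ^ Nat.card A = 1 := pow_card_eq_one'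
      rw [show a ^ Nat.card A = 1 from congrArg Subtype.val h5]; exact one_mem _
    refine mem_of_pow_mem_coprime h4 h2 ?_
    by_contra hne
    obtain ⟨p, hp, hp1, hp2⟩ := Nat.Prime.not_coprime_iff_dvd.1 hne
    have := hAp p hp hp1
    have := hR.idx p hp hp2
    omega
  rw [hR.nor A hAT (hne _ (hXA y.2)), ← hR.nor X (hXA.trans hAT) (hne _ y.2)]
  exact centralizer_le_normalizer _

/-- **`²G₂(q)`** -/
theorem rowM_ree {S : Type u} [Group S] [Finite S] (h3 : 3 ∉ π) (h : Lie.IsoRee S) : RowM π S := by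
  by_cases h2 : 2 ∈ π
  · obtain ⟨K, _, _, m, hm, hK, ⟨e⟩⟩ := id h
    have hfin : Finite (Lie.twistedG2 K (3 ^ m)) := Finite.of_equiv S e.toEquiv
    refine rowM_congr e.symm (rowM_of_dom fun hD => ?_)
    have hG : Lie.IsoRee ↥(Lie.twistedG2 K (3 ^ m)) := ⟨K, _, _, m, hm, hK, ⟨MulEquiv.refl _⟩⟩
    obtain ⟨H, A, hH, hAH, hn, hab, hA2, hidx⟩ := Cfsg.Agent.H555.RV.ReeRow.ftwo_ree h2 h3 hG (DB.of_dom hD)
    refine rowM_of_tor ⟨Nat.prime_two, hH, hAH, hn, hab, hA2, hidx⟩ h3 fun t ht h5 x hx => ?_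
    exact ree_tor hm hK ((eight_ree hG).2 t ht h5) ht h5 hx
  · obtain ⟨K, _, _, m, hm, hK, ⟨e⟩⟩ := id h
    have hle : Cfsg.Lie.twistedG2 K (3 ^ m) ≤ Cfsg.Lie.chevG2.group K :=
      H778.Exc.genSubgroup_le_group (by simp [Cfsg.Agent.ChevalleyStructure.Elts.InList]) (Cfsg.Lie.g2Words K (3 ^ m))
    have hch : CharP K 3 := by
      obtain ⟨p, hp'⟩ := CharP.exists K
      have hp : p.Prime := CharP.char_is_prime K p
      have h1 : p ∣ Fintype.card K := by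
        have := (CharP.cast_eq_zero_iff K p (Fintype.card K)).1 (FiniteField.cast_card_eq_zero K)
        exact this
      rw [hK] at h1
      have h4 := (Nat.prime_dvd_prime_iff_eq hp Nat.prime_three).1 (hp.dvd_of_dvd_pow h1)
      rwa [h4] at hp'
    have hG : Good (fun t => 5 ≤ t) S :=
      ((good_untw g2T (F := K)).of_injective ((Subgroup.inclusion hle).comp e.toMonoidHom)
        ((Subgroup.inclusion_injective hle).comp e.injective)).mono fun t ht h5 =>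
        ⟨cast_ne_zero_of_char (p := 3) Nat.prime_three ht (by omega), by
          rw [card_G2]
          exact not_dvd_12 ht h5⟩
    exact rowM_good hG h2 fun t ht htπ _ => five_le ht (by rintro rfl; exact h2 htπ) (by rintro rfl; exact h3 htπ)

end Cfsg.Agent.H893.RM
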