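import Cfsg.Agent.H893.RM.TwG
import Cfsg.Agent.H893.RM.TwT
import Cfsg.Agent.H565.TwF4Rank

/-!
# S3849: the row `²F₄(q)` (helper893)
-/

set_option autoImplicit false
set_option linter.unusedSectionVars false

namespace Cfsg.Agent.H893.RM

open Subgroup Cfsg Cfsg.Agent.H988.CPi Cfsg.Agent.H571.DExt Cfsg.Agent.H571.RV Cfsg.Agent.H571.RM
  Cfsg.Agent.H553.OddHall Cfsg.Agent.H565.NM Cfsg.Agent.H167.RV Cfsg.Agent.Solvable.SZ
open Cfsg.Lie Cfsg.Agent.H759.TwF TwG TwT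

universe u

variable {π : Set ℕ}

section

variable {K : Type u} [Field K] [Fintype K] {m : ℕ} (hK : Fintype.card K = 2 ^ (2 * m + 1))

include hK

theorem pe_one : pe (2 ^ m) (NN 1) = ((2 ^ (2 * m + 1) + 1 : ℕ) : ℤ) := by
  have hb : (2 : ℤ) ^ (2 * m + 1) = 2 * (2 ^ m) ^ 2 := by rw [← pow_mul]; ring
  push_cast
  rw [hb]
  generalize ((2 : ℤ) ^ m) = b
  simp [NN, tdB, pe]
  ring

theorem not_nine_dvd (T : Subgroup ↥(twistedF4 K (2 ^ m))) (hT : pe (2 ^ m) (NN 1) ^ 2 ∣ ((Nat.card T : ℕ) : ℤ)) :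
    ¬ 9 ∣ T.index := by
  intro h9
  have := Cfsg.Agent.ChevalleyStructure.TwF4.Twisted.charP_two hK
  have hfin : Finite ↥(twistedF4 K (2 ^ m)) := H42.Tw.finite_tw (K := K) (2 ^ m)
  rw [pe_one hK] at hT
  have h1 : (2 ^ (2 * m + 1) + 1) ^ 2 ∣ Nat.card T := by exact_mod_cast hT
  have h2 : (2 ^ (2 * m + 1) + 1) ^ 2 * 9 ∣ Nat.card ↥(twistedF4 K (2 ^ m)) := by
    rw [← T.card_mul_index]
    exact mul_dvd_mul h1 h9
  have hord : Nat.card ↥(twistedF4 K (2 ^ m)) = Cfsg.Agent.H42.Tw.ord (2 ^ (2 * m + 1)) := Cfsg.Agent.S1068.result hK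
  have h0 : Nat.card ↥(twistedF4 K (2 ^ m)) ≠ 0 := Nat.card_pos.ne'
  rw [hord] at h2 h0
  have h3 := Cfsg.Agent.H565.F4R.fact_three (m := m)
  have h4 := (Nat.factorization_le_iff_dvd (by positivity) h0).2 h2 3
  have hf9 : (9 : ℕ).factorization 3 = 2 := by
    rw [show (9 : ℕ) = 3 ^ 2 by norm_num, Nat.prime_three.factorization_pow]
    simp
  rw [h3, Nat.factorization_mul (by positivity) (by norm_num), Nat.factorization_pow, Finsupp.add_apply,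
    Finsupp.smul_apply, hf9, smul_eq_mul] at h4
  omega

theorem cyc_of_dvd {t : ℕ} (ht : t.Prime) (ht2 : t ≠ 2) (ht3 : t ≠ 3) {i : Fin 7} (hi : i = 4 ∨ i = 5 ∨ i = 6)
    (hd : (t : ℤ) ∣ pe (2 ^ m) (NN i)) {P : Subgroup ↥(twistedF4 K (2 ^ m))} (hP : IsPGroup t P) : IsCyclic P := by
  have hft : Fact t.Prime := ⟨ht⟩
  have hb : ((2 : ZMod t)) ^ (2 * m + 1) = 2 * (2 ^ m) ^ 2 := by rw [← pow_mul]; ring
  have key : ∀ i : Fin 7, (t : ℤ) ∣ pe (2 ^ m) (NN i) → ((pe (2 ^ m) (NN i) : ℤ) : ZMod t) = 0 := fun i hi =>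
    (ZMod.intCast_zmod_eq_zero_iff_dvd _ t).2 hi
  refine Cfsg.Agent.H42.Tw.cyclic_twF4' hK (five_le ht ht2 ht3) ?_ hP
  push_cast
  rw [hb]
  rcases hi with rfl | rfl | rfl
  · left
    have h1 := key _ hd
    simp [NN, tdD, pe] at h1
    linear_combination h1
  · right
    have h1 := key _ hd
    simp [NN, tdEp, pe] at h1
    generalize ((2 : ZMod t) ^ m) = b at *
    linear_combination (4 * b ^ 4 - 4 * b ^ 3 + 2 * b ^ 2 - 2 * b + 1) * h1
  · right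
    have h1 := key _ hd
    simp [NN, tdEm, pe] at h1
    generalize ((2 : ZMod t) ^ m) = b at *
    linear_combination (4 * b ^ 4 + 4 * b ^ 3 + 2 * b ^ 2 + 2 * b + 1) * h1

end

/-- **`²F₄(q)`** -/
theorem rowM_2F4 {S : Type u} [Group S] [Finite S] (h2 : 2 ∉ π) (h : Lie.Iso2F4 S) : RowM π S := by
  obtain ⟨K, _, _, m, hm, hK, ⟨e⟩⟩ := id h
  have hch := Cfsg.Agent.ChevalleyStructure.TwF4.Twisted.charP_two hK
  have hfin : Finite ↥(Lie.twistedF4 K (2 ^ m)) := Finite.of_equiv S e.toEquiv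
  refine rowM_congr e.symm ?_
  by_cases h3 : 3 ∈ π
  swap
  · exact rowM_good (good_2F4 hK) h2 fun t ht htπ _ =>
      five_le ht (by rintro rfl; exact h2 htπ) (by rintro rfl; exact h3 htπ)
  refine rowM_of_dom fun hD => ?_
  have hG : Lie.Iso2F4 ↥(Lie.twistedF4 K (2 ^ m)) := ⟨K, _, _, m, hm, hK, ⟨MulEquiv.refl _⟩⟩
  have hFH : FHall π ↥(Lie.twistedF4 K (2 ^ m)) := fhall_2F4 h2 (by obtain ⟨H, hH, -⟩ := hD; exact ⟨H, hH⟩) hG
  obtain ⟨r, H, A, d⟩ := FHall.exists_HA hFH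
  -- a Sylow 3-subgroup
  obtain ⟨R, hRH, hRp, hRi⟩ := exists_syl Nat.prime_three H
  have hf3 : Fact (Nat.Prime 3) := ⟨Nat.prime_three⟩
  have hRi' : ¬ 3 ∣ R.index := by
    rw [← relIndex_mul_index hRH]
    exact fun h => (Nat.prime_three.dvd_mul.1 h).elim hRi (d.hall.2 3 Nat.prime_three h3)
  have hna : ∃ u ∈ R, ∃ v ∈ R, u * v ≠ v * u := by
    by_contra hcon
    push Not at hcon
    exact Cfsg.Agent.H42.Tw.not_abelian_three K (e := 2 ^ m) (by positivity) (hRp.toSylow hRi')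
      ⟨⟨fun a b => Subtype.ext (hcon a a.2 b b.2)⟩⟩
  have hr3 : r = 3 := by
    by_contra hr
    obtain ⟨u, hu, v, hv, huv⟩ := hna
    have key : ∀ y ∈ R, y ∈ A := fun y hy => by
      refine HA.mem_A d (hRH hy) ?_
      obtain ⟨k, hk⟩ := hRp ⟨y, hy⟩
      exact Nat.Coprime.coprime_dvd_left (orderOf_dvd_of_pow_eq_one (show y ^ 3 ^ k = 1 from congrArg Subtype.val hk))
        (Nat.Coprime.pow_left _ ((Nat.coprime_primes Nat.prime_three d.hr).2 (Ne.symm hr)))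
    exact huv (d.ab u (key u hu) v (key v hv))
  subst hr3
  refine rowM_of_star d h3 fun t ht ht3 htA w hw hw3 a ha hao hwa b hb hbt => ?_
  have htπ : t ∈ π := d.hall.1 t ht (htA.trans (card_dvd_of_le d.ale))
  have ht2 : t ≠ 2 := by rintro rfl; exact h2 htπ
  obtain ⟨B, hBA, hBt, hBi⟩ := exists_syl ht A
  have hBi' : ¬ t ∣ B.index := by
    rw [← relIndex_mul_index hBA, ← relIndex_mul_index d.ale]
    intro h
    rcases (Nat.Prime.dvd_mul ht).1 h with h | h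
    · exact hBi h
    · rcases (Nat.Prime.dvd_mul ht).1 h with h | h
      · exact ht3 (d.idx t ht h)
      · exact d.hall.2 t ht htπ h
  have hBc : ∀ a ∈ B, ∀ b ∈ B, a * b = b * a := fun a ha b hb => d.ab a (hBA ha) b (hBA hb)
  have hHB : H ≤ normalizer (B : Set ↥(Lie.twistedF4 K (2 ^ m))) := fun x hx => by
    apply mem_normalizer_fintype
    intro y hy
    refine mem_of_tpow ht d.ab hBi ((mem_normalizer_iff.1 (d.nor hx) y).1 (hBA hy)) ?_
    obtain ⟨k, hk⟩ := hBt ⟨y, hy⟩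
    exact ⟨k, by rw [conj_pow, show y ^ t ^ k = 1 from congrArg Subtype.val hk]; group⟩
  have haB : a ∈ B := mem_of_tpow ht d.ab hBi ha ⟨1, by rw [pow_one, ← hao, pow_orderOf_eq_one]⟩
  have hbB : b ∈ B := mem_of_tpow ht d.ab hBi hb hbt
  obtain ⟨i, hi⟩ := exists_type hK ht ht2 (htA.trans (card_subgroup_dvd_card A))
  have hcase : (i = 0 ∨ i = 2 ∨ i = 3) ∨ i = 1 ∨ (i = 4 ∨ i = 5 ∨ i = 6) := by
    clear hi; revert i; decide
  rcases hcase with hi' | rfl | hi'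
  · exfalso
    obtain ⟨Q, hQt, -, hQ⟩ := exists_Q hK i ht Nat.prime_three ht3 ht2 ht3 hi (by
      rw [show ((3 : ℕ) : ℤ) = 3 from rfl, three_dvd_iff]
      rcases hi' with rfl | rfl | rfl <;> decide)
    exact false_of_rank ht (TwT.prankLE hK hi' ht ht2 ht3 hi) ht3 hBt hBi' hBc hRp (hRH.trans hHB) hna hQt hQ
  · obtain ⟨T, x, hTc, hTN, hx3, hxT, hfree⟩ := exists_sig hK
    have htT : ¬ t ∣ T.index := not_dvd_index hK ht ht2 ht3 hi T hTN
    exact star_of_torus ht hTc htT (not_nine_dvd hK T hTN) hx3 hxT (hfree t ht ht3) hBt hBi' hw3 (hHB hw) haB hao hwa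
      b hbB
  · exact star_of_cyclic ht ht2 ht3 hBt (cyc_of_dvd hK ht ht2 ht3 hi' hi hBt) hw3 (hHB hw) haB hao hwa b hbB

end Cfsg.Agent.H893.RM
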